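import Groth.Agent.QC70.Stalk
import Groth.Prelude.Def_CohB1
import Mathlib.RingTheory.Support

/-! Supports of quasi-coherent modules on affine opens. -/

set_option autoImplicit false
set_option backward.isDefEq.respectTransparency.types false

noncomputable section

universe u

open CategoryTheory AlgebraicGeometry TopologicalSpace Opposite
open Groth.Agent.QC70

namespace Groth.Agent.QCSupp72

variable {X : Scheme.{u}}

theorem mem_basicOpen_iff_notMem {U : X.Opens} (hU : IsAffineOpen U) {x : X} (hx : x ∈ U)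
    (f : Γ(X, U)) : x ∈ X.basicOpen f ↔ f ∉ (hU.primeIdealOf ⟨x, hx⟩).asIdeal := by
  rw [show x ∈ X.basicOpen f ↔ hU.fromSpec (hU.primeIdealOf ⟨x, hx⟩) ∈ X.basicOpen f from by
    rw [hU.fromSpec_primeIdealOf]]
  change hU.primeIdealOf ⟨x, hx⟩ ∈ hU.fromSpec ⁻¹ᵁ X.basicOpen f ↔ _
  rw [hU.fromSpec_preimage_basicOpen]
  rfl

theorem subsingleton_stalk_iff (M : X.Modules) [M.IsQuasicoherent] {U : X.Opens}
    (hU : IsAffineOpen U) {x : X} (hx : x ∈ U) :
    Subsingleton (M.presheaf.stalk x) ↔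
      ∀ t : Γ(M, U), ∃ f ∉ (hU.primeIdealOf ⟨x, hx⟩).asIdeal, f • t = 0 := by
  have hM := isLocAt_of_isQuasicoherent M hU
  constructor
  · intro h t
    obtain ⟨f, hf, h0⟩ := stalk_exists_smul_eq_zero hM hU hx t (Subsingleton.elim _ _)
    exact ⟨f, (mem_basicOpen_iff_notMem hU hx f).mp hf, h0⟩
  · intro h
    refine subsingleton_of_forall_eq 0 fun e => ?_
    obtain ⟨f, t, hf, he⟩ := stalk_exists_smul hM hU hx e
    obtain ⟨g, hg, h0⟩ := h t
    have hgu : IsUnit (X.presheaf.germ U x hx g) :=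
      isUnit_germ ((mem_basicOpen_iff_notMem hU hx g).mpr hg)
    have hfu : IsUnit (X.presheaf.germ U x hx f) := isUnit_germ hf
    rw [← hfu.smul_eq_zero, ← hgu.smul_eq_zero, he, ← germM_smul, h0, germM_zero]

theorem mem_support_iff (M : X.Modules) [M.IsQuasicoherent] {U : X.Opens} (hU : IsAffineOpen U)
    {x : X} (hx : x ∈ U) :
    hU.primeIdealOf ⟨x, hx⟩ ∈ Module.support Γ(X, U) Γ(M, U) ↔ x ∈ CohB1.support M := by
  rw [← not_iff_not, Module.notMem_support_iff', show (x ∉ CohB1.support M) ↔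
    Subsingleton (M.presheaf.stalk x) from not_not, subsingleton_stalk_iff M hU hx]

theorem support_stableUnderSpecialization (M : X.Modules) [M.IsQuasicoherent] :
    StableUnderSpecialization (CohB1.support M) := by
  intro x y h hx
  obtain ⟨_, ⟨V, hV, rfl⟩, hyV, -⟩ :=
    X.isBasis_affineOpens.exists_subset_of_mem_open (Set.mem_univ y) isOpen_univ
  have hxV : x ∈ V := h.mem_open V.2 hyV
  refine (mem_support_iff M hV hyV).mp (Module.mem_support_mono ?_ ((mem_support_iff M hV hxV).mpr hx))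
  intro f hf
  by_contra hfy
  exact ((mem_basicOpen_iff_notMem hV hxV f).mp
    (h.mem_open (X.basicOpen f).2 ((mem_basicOpen_iff_notMem hV hyV f).mpr hfy))) hf

theorem range_primeIdealOf {U : X.Opens} (hU : IsAffineOpen U) (p : PrimeSpectrum Γ(X, U)) :
    ∃ (x : X) (hx : x ∈ U), hU.primeIdealOf ⟨x, hx⟩ = p := by
  have hp : hU.fromSpec p ∈ U := by
    have : hU.fromSpec p ∈ Set.range hU.fromSpec := ⟨p, rfl⟩
    rwa [hU.range_fromSpec] at this
  exact ⟨hU.fromSpec p, hp, hU.fromSpec.isOpenEmbedding.injective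
    (hU.fromSpec_primeIdealOf ⟨_, hp⟩)⟩

/-- On a locally Noetherian scheme an ideal sheaf cutting out a set containing the support is
radically contained in the annihilator of the sections on every affine open. -/
theorem exists_pow_le_annihilator [IsLocallyNoetherian X] (M : X.Modules) [M.IsQuasicoherent]
    [M.IsFiniteType] (J : X.IdealSheafData) (h : CohB1.support M ⊆ (J.support : Set X))
    (U : X.affineOpens) :
    ∃ n : ℕ, J.ideal U ^ n ≤ Module.annihilator Γ(X, U.1) Γ(M, U.1) := by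
  have := IsLocallyNoetherian.component_noetherian U
  have := finite_sections_of_isFiniteType M U.2
  have hsub : J.ideal U ≤ (Module.annihilator Γ(X, U.1) Γ(M, U.1)).radical := by
    rw [← PrimeSpectrum.vanishingIdeal_zeroLocus_eq_radical,
      ← PrimeSpectrum.subset_zeroLocus_iff_le_vanishingIdeal, ← Module.support_eq_zeroLocus]
    intro p hp
    obtain ⟨x, hx, rfl⟩ := range_primeIdealOf U.2 p
    have hxs : x ∈ X.zeroLocus (U := U.1) (J.ideal U : Set Γ(X, U.1)) :=
      (J.mem_support_iff_of_mem hx).mp (h ((mem_support_iff M U.2 hx).mp hp))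
    intro a ha
    by_contra hne
    exact (Scheme.mem_zeroLocus_iff _ _ _).mp hxs a ha
      ((mem_basicOpen_iff_notMem U.2 hx a).mpr hne)
  exact Ideal.exists_pow_le_of_le_radical_of_fg hsub (IsNoetherian.noetherian _)

theorem exists_pow_smul_sections_eq_zero [IsNoetherian X] (M : X.Modules) [M.IsQuasicoherent]
    [M.IsFiniteType] (J : X.IdealSheafData) (h : CohB1.support M ⊆ (J.support : Set X)) :
    ∃ n : ℕ, ∀ (U : X.affineOpens) (a : Γ(X, U.1)), a ∈ J.ideal U ^ n →
      ∀ s : Γ(M, U.1), a • s = 0 := by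
  classical
  choose n hn using exists_pow_le_annihilator M J h
  obtain ⟨t, ht⟩ := isCompact_univ.elim_finite_subcover (fun U : X.affineOpens => (U.1 : Set X))
    (fun U => U.1.2) (fun x _ => by
      obtain ⟨_, ⟨V, hV, rfl⟩, hxV, -⟩ :=
        X.isBasis_affineOpens.exists_subset_of_mem_open (Set.mem_univ x) isOpen_univ
      exact Set.mem_iUnion.mpr ⟨⟨V, hV⟩, hxV⟩)
  refine ⟨t.sup n, fun U a ha s => section_ext M _ _ fun p hp => ?_⟩
  obtain ⟨W, hW, hpW⟩ := Set.mem_iUnion₂.mp (ht (Set.mem_univ p))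
  obtain ⟨f, g, hfg, hpf⟩ := exists_basicOpen_le_affine_inter U.2 W.2 p ⟨hp, hpW⟩
  have hDU : X.basicOpen g ≤ U.1 := by rw [← hfg]; exact X.basicOpen_le f
  have hpD : p ∈ X.basicOpen g := hfg ▸ hpf
  refine ⟨X.basicOpen g, hDU, hpD, ?_⟩
  rw [res_smul, res_zero]
  let I : Ideal Γ(X, X.basicOpen g) :=
    (J.ideal W).map (X.presheaf.map (homOfLE (X.basicOpen_le g)).op).hom
  have key : ∀ r ∈ I ^ t.sup n, ∀ y : Γ(M, X.basicOpen g), r • y = 0 := by
    intro r hr y
    rw [← Ideal.map_pow] at hr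
    have hle : (J.ideal W ^ t.sup n).map (X.presheaf.map (homOfLE (X.basicOpen_le g)).op).hom ≤
        LinearMap.ker (LinearMap.toSpanSingleton Γ(X, X.basicOpen g) Γ(M, X.basicOpen g) y) := by
      rw [Ideal.map_le_iff_le_comap]
      intro c hc
      rw [Ideal.mem_comap, LinearMap.mem_ker, LinearMap.toSpanSingleton_apply]
      obtain ⟨k, z, hz⟩ := (isLocAt_of_isQuasicoherent M W.2).exists_of g y
      have hcz : c • z = 0 := Module.mem_annihilator.mp
        (hn W (Ideal.pow_le_pow_right (Finset.le_sup (f := n) hW) hc)) z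
      have hu : IsUnit (resO X (X.basicOpen_le g) g ^ k) := IsUnit.pow k
        (RingedSpace.isUnit_res_basicOpen _ g)
      refine hu.smul_eq_zero.mp ?_
      change resO X (X.basicOpen_le g) g ^ k • (resO X (X.basicOpen_le g) c • y) =
        (0 : Γ(M, X.basicOpen g))
      rw [smul_comm, ← hz, ← res_smul, hcz, res_zero]
    simpa using hle hr
  refine key _ ?_ _
  have hle2 : J.ideal U ≤ I.comap (X.presheaf.map (homOfLE hDU).op).hom :=
    (J.ideal_le_comap_ideal (U := X.affineBasicOpen (U := W) g) (V := U) hDU).trans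
      (Ideal.comap_mono (J.map_ideal_basicOpen W g).ge)
  exact (Ideal.le_comap_pow _ _) (Ideal.pow_right_mono hle2 _ ha)

end Groth.Agent.QCSupp72
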