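import Groth.Agent.QCSupp72.Support
import Groth.Agent.S6710
import Mathlib.CategoryTheory.Subobject.WellPowered
import Mathlib.CategoryTheory.Subobject.Basic

/-! A Serre class of quasi-coherent modules closed under sums that contains a finitely presented
module contains every quasi-coherent module supported in its support. -/

set_option autoImplicit false
set_option backward.isDefEq.respectTransparency.types false

noncomputable section

universe u

open CategoryTheory Limits AlgebraicGeometry TopologicalSpace Opposite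

namespace Groth.Agent.QCSupp72

variable {X : Scheme.{u}}

section

variable (P : ObjectProperty (QCohCat.QCoh X))
  (hSerre : ∀ S : ShortComplex (QCohCat.QCoh X), S.ShortExact → (P S.X₂ ↔ P S.X₁ ∧ P S.X₃))

include hSerre

theorem prop_of_mono {A B : QCohCat.QCoh X} (f : A ⟶ B) [Mono f] (hB : P B) : P A :=
  ((hSerre (ShortComplex.mk f (cokernel.π f) (cokernel.condition f))
    { exact := ShortComplex.exact_of_g_is_cokernel _ (cokernelIsCokernel f) }).mp hB).1

theorem prop_of_epi {A B : QCohCat.QCoh X} (f : A ⟶ B) [Epi f] (hA : P A) : P B :=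
  ((hSerre (ShortComplex.mk (kernel.ι f) f (kernel.condition f))
    { exact := ShortComplex.exact_of_f_is_kernel _ (kernelIsKernel f) }).mp hA).2

variable (hsum : ∀ (ι : Type u) (M : ι → QCohCat.QCoh X), (∀ i, P (M i)) → P (∐ M))

include hsum

/-- There is a quotient with no nonzero subobject in the class, with kernel in the class. -/
theorem exists_torsionFree (E : QCohCat.QCoh X) :
    ∃ (R Q : QCohCat.QCoh X) (i : R ⟶ E) (p : E ⟶ Q) (w : i ≫ p = 0),
      (ShortComplex.mk i p w).ShortExact ∧ P R ∧
        ∀ (K : QCohCat.QCoh X) (f : K ⟶ Q) [Mono f], P K → IsZero K := by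
  let s := {S : Subobject E // P (S : QCohCat.QCoh X)}
  haveI : Small.{u} (Subobject E) := inferInstance
  let e := equivShrink.{u} s
  let M : Shrink.{u} s → QCohCat.QCoh X := fun j => ((e.symm j).1 : QCohCat.QCoh X)
  let d : ∐ M ⟶ E := Sigma.desc fun j => (e.symm j).1.arrow
  have hR : P (Abelian.image d) :=
    prop_of_epi P hSerre (Abelian.factorThruImage d) (hsum _ M fun j => (e.symm j).2)
  let i : Abelian.image d ⟶ E := Abelian.image.ι d
  let p : E ⟶ cokernel i := cokernel.π i
  have hS : (ShortComplex.mk i p (cokernel.condition i)).ShortExact :=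
    { exact := ShortComplex.exact_of_g_is_cokernel _ (cokernelIsCokernel i) }
  refine ⟨_, _, i, p, cokernel.condition i, hS, hR, fun K f _ hK => ?_⟩
  -- the preimage of `K` lies in the class
  let K' := pullback p f
  have hS' : (ShortComplex.mk (pullback.lift i 0 (by simp [p]) : Abelian.image d ⟶ K')
      (pullback.snd p f) (pullback.lift_snd _ _ _)).ShortExact := by
    haveI : Mono (pullback.lift i (0 : Abelian.image d ⟶ K) (by simp [p]) : _ ⟶ K') :=
      mono_of_mono_fac (pullback.lift_fst i 0 (by simp [p]))
    refine { exact := ShortComplex.exact_of_f_is_kernel _ ?_ }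
    refine KernelFork.IsLimit.ofι' _ _ fun {A} k hk => ?_
    have h₁ : (k ≫ pullback.fst p f) ≫ p = 0 := by
      rw [Category.assoc, pullback.condition, ← Category.assoc, hk, zero_comp]
    refine ⟨hS.exact.lift (k ≫ pullback.fst p f) h₁, pullback.hom_ext ?_ ?_⟩
    · rw [Category.assoc, pullback.lift_fst]
      exact hS.exact.lift_f _ _
    · rw [Category.assoc, pullback.lift_snd, comp_zero, hk]
  have hK' : P K' := (hSerre _ hS').mpr ⟨hR, hK⟩
  let S : Subobject E := Subobject.mk (pullback.fst p f)
  have hSP : P (S : QCohCat.QCoh X) :=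
    prop_of_mono P hSerre (Subobject.underlyingIso (pullback.fst p f)).hom hK'
  have hle : pullback.fst p f ≫ p = 0 := by
    have h₁ : ∀ x : s, x.1.arrow ≫ p = 0 := fun x => by
      obtain ⟨j, rfl⟩ := e.symm.surjective x
      calc (e.symm j).1.arrow ≫ p = (Sigma.ι M j ≫ d) ≫ p := by rw [Sigma.ι_desc]
        _ = Sigma.ι M j ≫ Abelian.factorThruImage d ≫ i ≫ p := by
          rw [show Abelian.factorThruImage d ≫ i ≫ p = (Abelian.factorThruImage d ≫ i) ≫ p from (Category.assoc _ _ _).symm, show Abelian.factorThruImage d ≫ i = d from Abelian.image.fac d, Category.assoc]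
        _ = 0 := by rw [show i ≫ p = 0 from cokernel.condition i, comp_zero, comp_zero]
    have h : S.arrow ≫ p = 0 := h₁ ⟨S, hSP⟩
    have := congrArg ((Subobject.underlyingIso (pullback.fst p f)).inv ≫ ·) h
    simpa [S] using this
  rw [pullback.condition] at hle
  exact IsZero.of_mono_eq_zero f (by rw [← cancel_epi (pullback.snd p f), hle, comp_zero])

end

theorem exists_hom_ne_zero {A : CommRingCat.{u}} (M N : ModuleCat.{u} A)
    (hM : Module.FinitePresentation A M) (hN : ¬ IsZero N)
    (h : Module.support A N ⊆ Module.support A M) : ∃ f : M ⟶ N, f ≠ 0 := by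
  haveI : Nontrivial N := by
    rw [← not_subsingleton_iff_nontrivial]
    exact fun h' => hN (ModuleCat.isZero_of_subsingleton _)
  haveI := Groth.Agent.S6710.result A M N h
  obtain ⟨f, hf⟩ := exists_ne (0 : M →ₗ[A] N)
  exact ⟨ModuleCat.ofHom f, fun h0 => hf (congrArg ModuleCat.Hom.hom h0)⟩

/-- Supported quasi-coherent modules lie in the class generated by a finitely presented module. -/
theorem prop_of_support_subset [CompactSpace X] [QuasiSeparatedSpace X]
    (P : ObjectProperty (QCohCat.QCoh X))
    (hSerre : ∀ S : ShortComplex (QCohCat.QCoh X), S.ShortExact → (P S.X₂ ↔ P S.X₁ ∧ P S.X₃))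
    (hsum : ∀ (ι : Type u) (M : ι → QCohCat.QCoh X), (∀ i, P (M i)) → P (∐ M))
    {F : QCohCat.QCoh X} (hF : CohB1.IsFP F.obj) (hPF : P F) (E : QCohCat.QCoh X)
    (hsupp : CohB1.support E.obj ⊆ CohB1.support F.obj) : P E := by
  classical
  obtain ⟨R, Q, i, p, w, hS, hR, hQ⟩ := exists_torsionFree P hSerre hsum E
  refine (hSerre _ hS).mpr ⟨hR, ?_⟩
  suffices hQ0 : IsZero Q by
    haveI : Mono (hQ0.to_ F) := ⟨fun _ _ _ => hQ0.eq_of_tgt _ _⟩
    exact prop_of_mono P hSerre (hQ0.to_ F) hPF
  by_contra hne
  obtain ⟨n, U, hU, hcov⟩ := QCFilt72.exists_affine_cover (X := X)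
  let good : ℕ → Prop := fun m => ∃ (K : QCohCat.QCoh X) (k : K ⟶ Q), Mono k ∧ ¬ IsZero K ∧
    (Finset.univ.filter fun j => IsZero ((QCAffine72.sect (hU j)).obj K)).card = m
  have hne' : ∃ m, good m := ⟨_, Q, 𝟙 Q, inferInstance, hne, rfl⟩
  have hbound : ∀ m, good m → m ≤ n := by
    rintro m ⟨K, k, -, -, rfl⟩
    exact (Finset.card_filter_le _ _).trans (by simp)
  obtain ⟨m₀, hm₀⟩ := hne'
  have hmax := Nat.findGreatest_spec (P := good) (hbound _ hm₀) hm₀
  obtain ⟨K, k, hk, hK, hcard⟩ := hmax
  obtain ⟨j, hj⟩ : ∃ j, ¬ IsZero ((QCAffine72.sect (hU j)).obj K) := by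
    by_contra h
    push_neg at h
    exact hK ((IsZero.iff_id_eq_zero K).mpr
      (QCAffine72.eq_zero_of_sect_map U hU hcov _ fun l => (h l).eq_of_src _ _))
  haveI := QCAffine72.preservesFiniteLimits_sect (hU j)
  -- the unit is a monomorphism
  let η := (QCAffine72.sectAdj (hU j)).unit.app K
  have hη : Mono η := by
    refine Abelian.mono_of_kernel_ι_eq_zero η (IsZero.eq_of_src ?_ _ _)
    by_contra hker
    have hgood : good (Finset.univ.filter fun l =>
        IsZero ((QCAffine72.sect (hU l)).obj (kernel η))).card :=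
      ⟨kernel η, kernel.ι η ≫ k, mono_comp _ _, hker, rfl⟩
    have hlt : (Finset.univ.filter fun l => IsZero ((QCAffine72.sect (hU l)).obj K)).card <
        (Finset.univ.filter fun l =>
          IsZero ((QCAffine72.sect (hU l)).obj (kernel η))).card := by
      refine Finset.card_lt_card ((Finset.ssubset_iff_of_subset fun l hl => ?_).mpr ⟨j, ?_, ?_⟩)
      · haveI := QCAffine72.preservesFiniteLimits_sect (hU l)
        simp only [Finset.mem_filter, Finset.mem_univ, true_and] at hl ⊢
        exact IsZero.of_mono ((QCAffine72.sect (hU l)).map (kernel.ι η)) hl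
      · simp only [Finset.mem_filter, Finset.mem_univ, true_and]
        refine IsZero.of_mono_eq_zero ((QCAffine72.sect (hU j)).map (kernel.ι η)) ?_
        calc (QCAffine72.sect (hU j)).map (kernel.ι η)
            = (QCAffine72.sect (hU j)).map (kernel.ι η) ≫ (QCAffine72.sect (hU j)).map η ≫
              (QCAffine72.sectAdj (hU j)).counit.app _ := by
              rw [show (QCAffine72.sect (hU j)).map η ≫ (QCAffine72.sectAdj (hU j)).counit.app _ = 𝟙 _ from
                (QCAffine72.sectAdj (hU j)).left_triangle_components K, Category.comp_id]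
          _ = 0 := by
              rw [← Category.assoc, ← Functor.map_comp, kernel.condition, Functor.map_zero,
                zero_comp]
      · simpa using hj
    exact absurd (Nat.le_findGreatest (hbound _ hgood) hgood) (by omega)
  -- a map from `F` with nonzero value on `U j`
  have hsub : CohB1.support K.obj ⊆ CohB1.support F.obj := by
    haveI : Mono k.hom := (inferInstance : Mono ((QCohCat.isQCoh X).ι.map k))
    haveI : Epi p.hom := by
      haveI := hS.epi_g
      exact (inferInstance : Epi ((QCohCat.isQCoh X).ι.map p))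
    exact ((QC70.mem_support_of_mono k.hom).trans (QC70.mem_support_of_epi p.hom)).trans hsupp
  obtain ⟨f, hf⟩ := exists_hom_ne_zero _ _ (finitePresentation_sect (hU j) F hF) hj
    (support_sect_subset (hU j) hsub)
  let g := (QCAffine72.sectAdj (hU j)).homEquiv F _ f
  -- the intersection of the image with `K`
  let L := pullback η (Abelian.image.ι g)
  have hL : P L := prop_of_mono P hSerre (pullback.snd η (Abelian.image.ι g))
    (prop_of_epi P hSerre (Abelian.factorThruImage g) hPF)
  have hL0 : IsZero L := hQ L (pullback.fst η (Abelian.image.ι g) ≫ k) hL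
  haveI : IsIso ((QCAffine72.sect (hU j)).map η) := inferInstance
  let T := QCAffine72.sect (hU j)
  have hsec : T.map (Abelian.image.ι g) = 0 := by
    have hpb := (IsPullback.of_hasPullback η (Abelian.image.ι g)).map T
    haveI : IsIso (T.map (pullback.snd η (Abelian.image.ι g))) := hpb.isIso_snd_of_isIso
    exact ((T.map_isZero hL0).of_iso (asIso (T.map (pullback.snd η (Abelian.image.ι g)))).symm).eq_of_src _ _
  have hg : T.map g = 0 := by
    rw [← Abelian.image.fac g, T.map_comp, hsec, comp_zero]
  have hfg : f = T.map g ≫ (QCAffine72.sectAdj (hU j)).counit.app _ :=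
    ((Equiv.symm_apply_apply ((QCAffine72.sectAdj (hU j)).homEquiv F _) f).symm).trans
      (Adjunction.homEquiv_counit (QCAffine72.sectAdj (hU j)) F _ g)
  rw [hg, zero_comp] at hfg
  exact hf hfg

end Groth.Agent.QCSupp72
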