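import Groth.Agent.QCAffine72.Sections
import Groth.Agent.Props58.LocFree.FP
import Groth.Agent.QC70.CohOps
import Mathlib.RingTheory.Support

/-! Supports of quasi-coherent modules through sections on affine opens. -/

set_option autoImplicit false
set_option backward.isDefEq.respectTransparency.types false

noncomputable section

universe u

open CategoryTheory Limits AlgebraicGeometry TopologicalSpace Opposite
open Groth.Agent.QC70

namespace Groth.Agent.QCSupp72

variable {X : Scheme.{u}} {U : X.Opens} (hU : IsAffineOpen U)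

theorem mem_basicOpen_iff (p : Spec Γ(X, U)) (f : Γ(X, U)) :
    hU.fromSpec p ∈ X.basicOpen f ↔ f ∉ p.asIdeal := by
  rw [← PrimeSpectrum.mem_basicOpen, ← hU.fromSpec_preimage_basicOpen f]
  rfl

theorem fromSpec_mem (p : Spec Γ(X, U)) : hU.fromSpec p ∈ U := by
  rw [← SetLike.mem_coe, ← hU.range_fromSpec]
  exact ⟨p, rfl⟩

theorem mem_support_sections_iff (M : X.Modules) [M.IsQuasicoherent]
    (p : PrimeSpectrum Γ(X, U)) :
    p ∈ Module.support Γ(X, U) Γ(M, U) ↔ hU.fromSpec p ∈ CohB1.support M := by
  have hM := isLocAt_of_isQuasicoherent M hU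
  have hxU : hU.fromSpec p ∈ U := fromSpec_mem hU p
  rw [Module.mem_support_iff']
  constructor
  · rintro ⟨t, ht⟩ hsub
    obtain ⟨f, hf, hft⟩ := stalk_exists_smul_eq_zero hM hU hxU t (hsub.elim _ _)
    exact ht f ((mem_basicOpen_iff hU p f).mp hf) hft
  · intro hs
    obtain ⟨e, he⟩ : ∃ e : M.presheaf.stalk (hU.fromSpec p), e ≠ 0 := by
      by_contra h
      push_neg at h
      exact hs (subsingleton_of_forall_eq 0 h)
    obtain ⟨g, t, hg, hgt⟩ := stalk_exists_smul hM hU hxU e
    refine ⟨t, fun r hr hrt => he ((isUnit_germ hg).smul_eq_zero.mp ?_)⟩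
    rw [hgt]
    refine (isUnit_germ ((mem_basicOpen_iff hU p r).mpr hr)).smul_eq_zero.mp ?_
    rw [← germM_smul, hrt, germM_zero]

theorem support_sect_subset {E F : QCohCat.QCoh X}
    (h : CohB1.support E.obj ⊆ CohB1.support F.obj) :
    Module.support Γ(X, U) ((QCAffine72.sect hU).obj E) ⊆
      Module.support Γ(X, U) ((QCAffine72.sect hU).obj F) := by
  have : E.obj.IsQuasicoherent := E.property
  have : F.obj.IsQuasicoherent := F.property
  intro p hp
  let eF : (QCAffine72.sect hU).obj F ≃ₗ[Γ(X, U)] Γ(F.obj, U) :=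
    Props58.LocFree.specTopEquiv F.obj hU
  let eE : (QCAffine72.sect hU).obj E ≃ₗ[Γ(X, U)] Γ(E.obj, U) :=
    Props58.LocFree.specTopEquiv E.obj hU
  rw [eF.support_eq]
  rw [eE.support_eq] at hp
  exact (mem_support_sections_iff hU F.obj p).mpr (h ((mem_support_sections_iff hU E.obj p).mp hp))

theorem finitePresentation_sect (F : QCohCat.QCoh X) (hF : CohB1.IsFP F.obj) :
    Module.FinitePresentation Γ(X, U) ((QCAffine72.sect hU).obj F) := by
  have := Props58.LocFree.finitePresentation_sections F.obj hU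
  exact Module.FinitePresentation.of_equiv (Props58.LocFree.specTopEquiv F.obj hU).symm

end Groth.Agent.QCSupp72
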